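import Mathlib
import Groth.Agent.Hensel.Local
import Groth.Agent.RegLocal.Completion
import Groth.Agent.NagataCompleteLib.Unramified

/-!
The integral closure of a Noetherian local domain in a finite extension is semi-local.
-/

set_option autoImplicit false
set_option linter.style.haveILetI false

namespace Groth.Agent.MoriFiniteLib

open TensorProduct IsLocalRing

universe v in
theorem isLocalRing_of_finite (R : Type*) (S : Type v) [CommRing R] [CommRing S] [Algebra R S] [HenselianLocalRing R]
    [IsDomain S] [Module.Finite R S] : IsLocalRing S := by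
  classical
  obtain ⟨ι, _, C, _, hC, ⟨e⟩⟩ := Groth.Agent.Hensel.exists_pi_local_of_henselian R S
  haveI := hC
  haveI : Subsingleton ι := ⟨fun i j => by
    by_contra hij
    have h0 : e.symm (Pi.single i 1) * e.symm (Pi.single j 1) = 0 := by
      rw [← map_mul, ← map_zero e.symm]
      congr 1
      funext l
      by_cases hl : l = i
      · subst hl; simp [hij]
      · simp [hl]
    rcases mul_eq_zero.1 h0 with h | h
    · have := congrFun ((map_eq_zero_iff _ e.symm.injective).1 h) i; simp at this
    · have := congrFun ((map_eq_zero_iff _ e.symm.injective).1 h) j; simp at this⟩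
  haveI : Nonempty ι := by
    by_contra h
    haveI := not_nonempty_iff.1 h
    haveI := e.toEquiv.subsingleton
    exact false_of_nontrivial_of_subsingleton S
  obtain ⟨i⟩ := ‹Nonempty ι›
  letI : Unique ι := uniqueOfSubsingleton i
  exact (e.trans (RingEquiv.piUnique C)).symm.isLocalRing


universe u

variable (A K' : Type u) [CommRing A] [IsDomain A] [IsLocalRing A] [IsNoetherianRing A]
  [Field K'] [Algebra A K'] [Algebra (FractionRing A) K'] [IsScalarTower A (FractionRing A) K']
  [FiniteDimensional (FractionRing A) K']

local notation "Ah" => AdicCompletion (maximalIdeal A) A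
local notation "T" => TensorProduct A Ah K'

theorem isAdicComplete_completion :
    haveI := RegLocal.isLocalRing_completion A _ (maximalIdeal.isMaximal A).ne_top
    IsAdicComplete (maximalIdeal Ah) Ah := by
  haveI := RegLocal.isLocalRing_completion A _ (maximalIdeal.isMaximal A).ne_top
  rw [RegLocal.maximalIdeal_completion _ _ (maximalIdeal.isMaximal A).ne_top]
  exact AdicCompletion.isAdicComplete_self _ (maximalIdeal A).fg_of_isNoetherianRing

theorem isNoetherianRing_fibre : IsNoetherianRing T := by
  haveI := RegLocal.isNoetherianRing_completion A (maximalIdeal A)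
  haveI : Algebra.EssFiniteType A (FractionRing A) := Algebra.EssFiniteType.of_isLocalization _ (nonZeroDivisors A)
  haveI : Algebra.EssFiniteType A K' := Algebra.EssFiniteType.comp A (FractionRing A) K'
  exact Algebra.EssFiniteType.isNoetherianRing Ah T

theorem target_props (P' : Ideal T) [P'.IsPrime] :
    ∃ _ : IsLocalRing (integralClosure Ah P'.ResidueField),
      Module.Finite A (ResidueField (integralClosure Ah P'.ResidueField)) := by
  classical
  haveI := RegLocal.isLocalRing_completion A _ (maximalIdeal.isMaximal A).ne_top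
  haveI := RegLocal.isNoetherianRing_completion A (maximalIdeal A)
  haveI := isAdicComplete_completion A
  haveI : HenselianLocalRing Ah :=
    { is_henselian := fun f hf a h1 h2 => (IsAdicComplete.henselianRing Ah (maximalIdeal Ah)).is_henselian f hf a h1
        (h2.map (Ideal.Quotient.mk (maximalIdeal Ah))) }
  let Q : Ideal Ah := RingHom.ker (algebraMap Ah P'.ResidueField)
  haveI : Q.IsPrime := RingHom.ker_isPrime _
  let R' := Ah ⧸ Q
  letI algR : Algebra R' P'.ResidueField := (RingHom.kerLift (algebraMap Ah P'.ResidueField)).toAlgebra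
  haveI : IsScalarTower Ah R' P'.ResidueField := IsScalarTower.of_algebraMap_eq' rfl
  haveI : FaithfulSMul R' P'.ResidueField :=
    (faithfulSMul_iff_algebraMap_injective _ _).2 (RingHom.kerLift_injective _)
  letI : Algebra (FractionRing R') P'.ResidueField := FractionRing.liftAlgebra R' P'.ResidueField
  haveI : IsScalarTower R' (FractionRing R') P'.ResidueField := FractionRing.isScalarTower_liftAlgebra R' P'.ResidueField
  have hA0 : ∀ s : A, s ≠ 0 → algebraMap A P'.ResidueField s ≠ 0 := fun s hs => by
    rw [IsScalarTower.algebraMap_apply A T P'.ResidueField]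
    have hu : IsUnit (algebraMap A T s) := by
      have h1 : IsUnit (algebraMap A K' s) := by
        refine isUnit_iff_ne_zero.2 ?_
        rw [IsScalarTower.algebraMap_apply A (FractionRing A) K', Ne,
          map_eq_zero_iff _ (algebraMap (FractionRing A) K').injective, map_eq_zero_iff _ (IsFractionRing.injective A (FractionRing A))]
        exact hs
      have h2 := h1.map (Algebra.TensorProduct.includeRight : K' →ₐ[A] T)
      rwa [AlgHom.commutes] at h2
    exact (hu.map (algebraMap T P'.ResidueField)).ne_zero
  haveI : FiniteDimensional (FractionRing R') P'.ResidueField := by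
    let β : FractionRing A →+* FractionRing R' := IsFractionRing.lift (g := (algebraMap R' (FractionRing R')).comp
      ((Ideal.Quotient.mk Q).comp (algebraMap A Ah))) (fun x y hxy => by
        by_contra hne
        refine hA0 (x - y) (sub_ne_zero.2 hne) ?_
        have h1 := congrArg (algebraMap (FractionRing R') P'.ResidueField) hxy
        simp only [RingHom.comp_apply, ← IsScalarTower.algebraMap_apply] at h1
        rw [map_sub, sub_eq_zero]
        rw [IsScalarTower.algebraMap_apply A Ah P'.ResidueField, IsScalarTower.algebraMap_apply A Ah P'.ResidueField]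
        exact h1)
    let b := Module.finBasis (FractionRing A) K'
    let V : Submodule (FractionRing R') P'.ResidueField :=
      Submodule.span _ (Set.range fun i => algebraMap T P'.ResidueField (1 ⊗ₜ b i))
    have hβ : ∀ a : FractionRing A, algebraMap (FractionRing R') P'.ResidueField (β a) =
        algebraMap T P'.ResidueField (1 ⊗ₜ algebraMap (FractionRing A) K' a) := by
      have e : (algebraMap (FractionRing R') P'.ResidueField).comp β =
          (algebraMap T P'.ResidueField).comp ((Algebra.TensorProduct.includeRight : K' →ₐ[A] T).toRingHom.comp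
            (algebraMap (FractionRing A) K')) := by
        refine IsLocalization.ringHom_ext (nonZeroDivisors A) (RingHom.ext fun a => ?_)
        simp only [RingHom.comp_apply, β, IsFractionRing.lift_algebraMap, ← IsScalarTower.algebraMap_apply]
        change algebraMap Ah P'.ResidueField (algebraMap A Ah a) = _
        rw [← IsScalarTower.algebraMap_apply]
        change _ = algebraMap T P'.ResidueField ((Algebra.TensorProduct.includeRight : K' →ₐ[A] T) (algebraMap A K' a))
        rw [AlgHom.commutes, ← IsScalarTower.algebraMap_apply]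
      exact fun a => RingHom.congr_fun e a
    have hmem : ∀ t : T, algebraMap T P'.ResidueField t ∈ V := by
      intro t
      induction t using TensorProduct.induction_on with
      | zero => rw [map_zero]; exact zero_mem _
      | add u v hu hv => rw [map_add]; exact add_mem hu hv
      | tmul c z =>
        have e : c ⊗ₜ[A] z = algebraMap Ah T c * ∑ i, (1 ⊗ₜ[A] algebraMap (FractionRing A) K' (b.repr z i)) * (1 ⊗ₜ b i) := by
          simp only [Algebra.TensorProduct.tmul_mul_tmul, one_mul, ← Algebra.smul_def, b.sum_repr, ← TensorProduct.tmul_sum]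
          rw [TensorProduct.smul_tmul', smul_eq_mul, mul_one]
        rw [e, map_mul, map_sum, Finset.mul_sum]
        refine sum_mem fun i _ => ?_
        rw [map_mul, ← hβ, ← mul_assoc]
        have e2 : algebraMap T P'.ResidueField (algebraMap Ah T c) =
            algebraMap (FractionRing R') P'.ResidueField (algebraMap R' (FractionRing R') (Ideal.Quotient.mk Q c)) := by
          rw [← IsScalarTower.algebraMap_apply, ← IsScalarTower.algebraMap_apply]
          rfl
        rw [e2, ← map_mul, ← Algebra.smul_def]
        exact Submodule.smul_mem _ _ (Submodule.subset_span ⟨i, rfl⟩)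
    let Vs : Subalgebra (FractionRing R') P'.ResidueField :=
      Algebra.adjoin _ (Set.range fun i => algebraMap T P'.ResidueField (1 ⊗ₜ b i))
    have hV : (Vs : Set P'.ResidueField) ⊆ V := by
      intro x hx
      induction hx using Algebra.adjoin_induction with
      | mem x hx => exact Submodule.subset_span hx
      | algebraMap r =>
        rw [Algebra.algebraMap_eq_smul_one]
        refine Submodule.smul_mem _ _ ?_
        rw [← map_one (algebraMap T P'.ResidueField)]; exact hmem 1
      | add x y _ _ hx hy => exact add_mem hx hy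
      | mul x y _ _ hx hy =>
        have hmul : ∀ u ∈ V, ∀ v ∈ V, u * v ∈ V := by
          intro u hu v hv
          induction hu using Submodule.span_induction with
          | mem u hu =>
            induction hv using Submodule.span_induction with
            | mem v hv =>
              obtain ⟨i, rfl⟩ := hu; obtain ⟨j, rfl⟩ := hv
              rw [← map_mul]; exact hmem _
            | zero => simp
            | add a c _ _ ha hc => rw [mul_add]; exact add_mem ha hc
            | smul r a _ ha => rw [mul_smul_comm]; exact Submodule.smul_mem _ _ ha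
          | zero => simp
          | add a c _ _ ha hc => rw [add_mul]; exact add_mem ha hc
          | smul r a _ ha => rw [smul_mul_assoc]; exact Submodule.smul_mem _ _ ha
        exact hmul x hx y hy
    haveI : Module.Finite (FractionRing R') V := Module.Finite.span_of_finite _ (Set.finite_range _)
    haveI : Module.Finite (FractionRing R') Vs :=
      Module.Finite.of_injective (LinearMap.codRestrict V Vs.val.toLinearMap fun x => hV x.2) fun x y h =>
        Subtype.ext (congrArg Subtype.val h :)
    have hVtop : Vs = ⊤ := by
      refine top_le_iff.1 fun x _ => ?_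
      have hT : ∀ t, algebraMap T P'.ResidueField t ∈ Vs := fun t =>
        (Submodule.span_le.2 (fun y hy => (Algebra.subset_adjoin hy : y ∈ Subalgebra.toSubmodule Vs)) : V ≤ Subalgebra.toSubmodule Vs) (hmem t)
      obtain ⟨t, s, hs, rfl⟩ : ∃ t s, s ∉ P' ∧ x = algebraMap T P'.ResidueField t / algebraMap T P'.ResidueField s := by
        obtain ⟨u, v, hv, e⟩ := IsFractionRing.div_surjective (A := T ⧸ P') x
        obtain ⟨t, rfl⟩ := Ideal.Quotient.mk_surjective u
        obtain ⟨s, rfl⟩ := Ideal.Quotient.mk_surjective v
        refine ⟨t, s, fun h => nonZeroDivisors.ne_zero hv (Ideal.Quotient.eq_zero_iff_mem.2 h), ?_⟩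
        rw [← e]; rfl
      rw [div_eq_mul_inv]
      refine mul_mem (hT t) ?_
      exact Subalgebra.inv_mem_of_algebraic Vs (x := ⟨_, hT s⟩)
        ((Algebra.IsIntegral.isIntegral (R := FractionRing R') (⟨_, hT s⟩ : Vs)).map Vs.val).isAlgebraic
    exact Module.Finite.of_surjective Vs.val.toLinearMap fun x => ⟨⟨x, hVtop ▸ Algebra.mem_top⟩, rfl⟩
  have hN2 := NagataCompleteLib.isN2_quot_complete (R := Ah) R' Ideal.Quotient.mk_surjective
  haveI : Module.Finite R' (integralClosure R' P'.ResidueField) := hN2 _ inferInstance
  haveI : Module.Finite Ah (integralClosure R' P'.ResidueField) := Module.Finite.trans R' _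
  haveI : Module.Finite Ah (integralClosure Ah P'.ResidueField) := by
    haveI : IsNoetherian Ah (integralClosure R' P'.ResidueField) := isNoetherian_of_isNoetherianRing_of_finite Ah _
    let φ : integralClosure Ah P'.ResidueField →ₗ[Ah] integralClosure R' P'.ResidueField :=
      { toFun := fun z => ⟨z.1, z.2.tower_top⟩
        map_add' := fun _ _ => rfl
        map_smul' := fun _ _ => rfl }
    exact Module.Finite.of_injective φ fun a b h => Subtype.ext (congrArg Subtype.val h :)
  haveI : IsLocalRing (integralClosure Ah P'.ResidueField) := isLocalRing_of_finite Ah _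
  refine ⟨inferInstance, ?_⟩
  haveI : Module.Finite Ah (ResidueField (integralClosure Ah P'.ResidueField)) :=
    Module.Finite.of_surjective (IsScalarTower.toAlgHom Ah _ (ResidueField (integralClosure Ah P'.ResidueField))).toLinearMap
      residue_surjective
  obtain ⟨n, g, hg⟩ := Module.Finite.exists_fin' Ah (ResidueField (integralClosure Ah P'.ResidueField))
  refine ⟨⟨(Finset.univ : Finset (Fin n)).image fun i => g (Pi.single i 1), top_le_iff.1 fun x _ => ?_⟩⟩
  obtain ⟨v, rfl⟩ := hg x
  rw [pi_eq_sum_univ' v, map_sum]
  refine sum_mem fun i _ => ?_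
  rw [map_smul]
  obtain ⟨a, ha⟩ := Ideal.Quotient.mk_surjective (AdicCompletion.evalOneₐ (maximalIdeal A) (v i))
  have hd : v i - algebraMap A Ah a ∈ maximalIdeal Ah := by
    rw [RegLocal.maximalIdeal_completion _ _ (maximalIdeal.isMaximal A).ne_top,
      ← AdicCompletion.ker_evalOneₐ_eq_map _ (maximalIdeal A).fg_of_isNoetherianRing, RingHom.mem_ker, map_sub, sub_eq_zero]
    exact ha.symm.trans ((AdicCompletion.evalOneₐ (maximalIdeal A)).commutes _).symm
  have h0 : ∀ r ∈ maximalIdeal Ah, algebraMap Ah (ResidueField (integralClosure Ah P'.ResidueField)) r = 0 := by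
    intro r hr
    rw [IsScalarTower.algebraMap_apply Ah (integralClosure Ah P'.ResidueField)]
    rw [ResidueField.algebraMap_eq, residue_eq_zero_iff]
    haveI := Ideal.isMaximal_comap_of_isIntegral_of_isMaximal (R := Ah) (maximalIdeal (integralClosure Ah P'.ResidueField))
    rw [← IsLocalRing.eq_maximalIdeal this] at hr
    exact hr
  have e : v i • g (Pi.single i 1) = a • g (Pi.single i 1) := by
    rw [← algebraMap_smul Ah a (g (Pi.single i 1)), Algebra.smul_def, Algebra.smul_def]
    congr 1
    rw [← sub_eq_zero, ← map_sub]
    exact h0 _ hd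
  rw [e]
  exact Submodule.smul_mem _ _ (Submodule.subset_span (by simp))

theorem exists_component (C : Type u) [CommRing C] [Algebra A C] [Module.Finite A C] (i : C →ₐ[A] K')
    (hi : Function.Injective i) (mC : Ideal C) [mC.IsPrime] [Finite (minimalPrimes T)]
    [hPp : ∀ P : minimalPrimes T, P.1.IsPrime]
    (φ : ∀ P : minimalPrimes T, C →ₐ[A] integralClosure Ah P.1.ResidueField)
    (hφ : ∀ P x, (φ P x : P.1.ResidueField) = algebraMap T P.1.ResidueField (1 ⊗ₜ i x))
    (hloc : ∀ P : minimalPrimes T, IsLocalRing (integralClosure Ah P.1.ResidueField)) :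
    ∃ P : minimalPrimes T, ∀ x ∈ mC, φ P x ∈ maximalIdeal (integralClosure Ah P.1.ResidueField) := by
  classical
  haveI := RegLocal.isLocalRing_completion A _ (maximalIdeal.isMaximal A).ne_top
  haveI := RegLocal.faithfullyFlat_completion A _ (maximalIdeal.isMaximal A).ne_top
  let O := fun P : minimalPrimes T => integralClosure Ah P.1.ResidueField
  let j : Ah ⊗[A] C →ₐ[Ah] T := Algebra.TensorProduct.map (AlgHom.id Ah Ah) i
  have hj : Function.Injective j := by
    have e : ⇑j = ⇑(i.toLinearMap.lTensor Ah) := funext fun z => by
      induction z using TensorProduct.induction_on with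
      | zero => rw [map_zero, map_zero]
      | tmul a x => rfl
      | add u v hu hv => rw [map_add, map_add, hu, hv]
    rw [e]
    exact Module.Flat.lTensor_preserves_injective_linearMap (M := Ah) i.toLinearMap hi
  obtain ⟨M', hM'max, hM'⟩ : ∃ M' : Ideal (Ah ⊗[A] C), M'.IsMaximal ∧
      ∀ x ∈ mC, (1 : Ah) ⊗ₜ[A] x ∈ M' := by
    obtain ⟨q, hq⟩ := PrimeSpectrum.comap_surjective_of_faithfullyFlat (A := C) (B := C ⊗[A] Ah) ⟨mC, inferInstance⟩
    let e := Algebra.TensorProduct.comm A Ah C
    obtain ⟨M', hM', hle⟩ := Ideal.exists_le_maximal (q.asIdeal.comap e.toRingHom) (Ideal.comap_ne_top _ q.2.ne_top)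
    refine ⟨M', hM', fun x hx => hle ?_⟩
    rw [Ideal.mem_comap]
    have : x ∈ q.asIdeal.comap (algebraMap C (C ⊗[A] Ah)) := by
      rw [show q.asIdeal.comap (algebraMap C (C ⊗[A] Ah)) = mC from congrArg PrimeSpectrum.asIdeal hq]; exact hx
    exact this
  haveI := hM'max
  obtain ⟨P0, hP0, hP0M⟩ := Ideal.exists_minimalPrimes_le (bot_le : (⊥ : Ideal (Ah ⊗[A] C)) ≤ M')
  obtain ⟨P1, hP1, hP1'⟩ := Ideal.exists_comap_eq_of_mem_minimalPrimes_of_injective hj P0 hP0
  haveI := hP1
  obtain ⟨P2, hP2, hP21⟩ := Ideal.exists_minimalPrimes_le (bot_le : (⊥ : Ideal T) ≤ P1)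
  let P : minimalPrimes T := ⟨P2, hP2⟩
  haveI : P2.IsPrime := hP2.1.1
  haveI := hloc P
  haveI hP0p : P0.IsPrime := hP0.1.1
  have hcomap : P2.comap j = P0 := le_antisymm ((Ideal.comap_mono hP21).trans hP1'.le)
    (hP0.2 ⟨Ideal.comap_isPrime _ _, bot_le⟩ ((Ideal.comap_mono hP21).trans hP1'.le))
  let χ : Ah ⊗[A] C →ₐ[Ah] O P :=
    Algebra.TensorProduct.lift (Algebra.ofId Ah (O P)) (φ P) fun _ _ => Commute.all _ _
  have hval : ∀ z, (χ z : P.1.ResidueField) = algebraMap T P.1.ResidueField (j z) := by
    intro z
    induction z using TensorProduct.induction_on with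
    | zero => simp
    | add u v hu hv => rw [map_add, map_add, map_add, Subalgebra.coe_add, hu, hv]
    | tmul a x =>
      rw [Algebra.TensorProduct.lift_tmul, Subalgebra.coe_mul]
      rw [hφ P]
      change algebraMap Ah P.1.ResidueField a * algebraMap T P.1.ResidueField (1 ⊗ₜ i x) = _
      rw [IsScalarTower.algebraMap_apply Ah T P.1.ResidueField, ← map_mul, Algebra.TensorProduct.algebraMap_apply,
        Algebra.TensorProduct.tmul_mul_tmul, mul_one, one_mul]
      rfl
  have hker : RingHom.ker χ.toRingHom ≤ M' := fun z hz => hP0M <| by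
    rw [← hcomap, Ideal.mem_comap, ← Ideal.algebraMap_residueField_eq_zero]
    exact (hval z).symm.trans (congrArg Subtype.val hz)
  letI : Algebra (Ah ⊗[A] C) (O P) := χ.toRingHom.toAlgebra
  haveI : IsScalarTower Ah (Ah ⊗[A] C) (O P) := IsScalarTower.of_algebraMap_eq fun a => (χ.commutes a).symm
  haveI : Algebra.IsIntegral (Ah ⊗[A] C) (O P) := Algebra.IsIntegral.tower_top (R := Ah)
  obtain ⟨Q, -, hQp, hQ⟩ := Ideal.exists_ideal_over_prime_of_isIntegral (R := Ah ⊗[A] C) (S := O P) M' ⊥
    (le_trans (le_of_eq (RingHom.ker_eq_comap_bot _).symm) hker)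
  haveI := hQp
  haveI : (Q.comap (algebraMap (Ah ⊗[A] C) (O P))).IsMaximal := hQ.symm ▸ hM'max
  have hQmax := Ideal.isMaximal_of_isIntegral_of_isMaximal_comap Q this
  refine ⟨P, fun x hx => ?_⟩
  have h1 : χ ((1 : Ah) ⊗ₜ[A] x) ∈ maximalIdeal (O P) := by
    rw [← IsLocalRing.eq_maximalIdeal hQmax]
    have := hM' x hx
    rw [← hQ] at this
    exact this
  rw [Algebra.TensorProduct.lift_tmul, map_one, one_mul] at h1
  exact h1

theorem finite_quot_ker {A : Type u} [CommRing A] [IsNoetherianRing A] {R S : Type u} [CommRing R] [Algebra A R]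
    [CommRing S] [Algebra A S] (f : R →ₐ[A] S) [Module.Finite A S] : Module.Finite A (R ⧸ RingHom.ker f) := by
  haveI : IsNoetherian A S := isNoetherian_of_isNoetherianRing_of_finite A _
  exact Module.Finite.of_injective (Ideal.kerLiftAlg f).toLinearMap (Ideal.kerLiftAlg_injective _)

theorem main :
    {m : Ideal (integralClosure A K') | m.IsMaximal}.Finite ∧
      ∀ (m : Ideal (integralClosure A K')), m.IsMaximal → Module.Finite A (integralClosure A K' ⧸ m) := by
  classical
  haveI := RegLocal.isLocalRing_completion A _ (maximalIdeal.isMaximal A).ne_top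
  haveI := RegLocal.faithfullyFlat_completion A _ (maximalIdeal.isMaximal A).ne_top
  haveI := isNoetherianRing_fibre A K'
  haveI : Finite (minimalPrimes T) := (minimalPrimes.finite_of_isNoetherianRing T).to_subtype
  haveI hPp : ∀ P : minimalPrimes T, P.1.IsPrime := fun P => P.2.1.1
  choose hloc hfin using fun P : minimalPrimes T => target_props A K' P.1
  let O := fun P : minimalPrimes T => integralClosure Ah P.1.ResidueField
  let ψ : ∀ P : minimalPrimes T, integralClosure A K' →ₐ[A] O P := fun P =>
    let f : integralClosure A K' →ₐ[A] P.1.ResidueField :=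
      ((IsScalarTower.toAlgHom A T P.1.ResidueField).comp Algebra.TensorProduct.includeRight).comp (integralClosure A K').val
    AlgHom.codRestrict f ((O P).restrictScalars A) fun z => ((Algebra.IsIntegral.isIntegral (R := A) z).map f).tower_top
  let θ := fun P : minimalPrimes T => (IsScalarTower.toAlgHom A (O P) (ResidueField (O P))).comp (ψ P)
  let n : minimalPrimes T → Ideal (integralClosure A K') := fun P => RingHom.ker (θ P)
  haveI hnp : ∀ P, (n P).IsPrime := fun P => RingHom.ker_isPrime (θ P)
  have hnfin : ∀ P, Module.Finite A (integralClosure A K' ⧸ n P) := fun P =>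
    @finite_quot_ker A _ _ _ _ _ _ _ _ (θ P) (hfin P)
  have hall : ∀ m' : Ideal (integralClosure A K'), m'.IsMaximal → ∃ P, m' = n P := by
    intro m' hm'
    by_contra hne
    push Not at hne
    have hex : ∀ P, ∃ c ∈ m', c ∉ n P := fun P => SetLike.not_le_iff_exists.1 fun h =>
      hne P (hm'.eq_of_le (hnp P).ne_top h)
    choose c hcm hcn using hex
    let C : Subalgebra A (integralClosure A K') := Algebra.adjoin A (Set.range c)
    haveI : Module.Finite A C := Module.Finite.iff_fg.2
      (fg_adjoin_of_finite (Set.finite_range _) fun x _ => Algebra.IsIntegral.isIntegral x)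
    let mC : Ideal C := m'.comap C.val
    haveI : mC.IsPrime := Ideal.comap_isPrime _ _
    obtain ⟨P, hP⟩ := exists_component A K' C ((integralClosure A K').val.comp C.val)
      (fun x y h => Subtype.ext (Subtype.ext h)) mC (fun P => (ψ P).comp C.val) (fun P x => rfl) hloc
    exact hcn P ((residue_eq_zero_iff _).2 (hP ⟨c P, Algebra.subset_adjoin ⟨P, rfl⟩⟩ (hcm P)))
  refine ⟨(Set.finite_range n).subset fun m' hm' => ?_, fun m' hm' => ?_⟩
  · obtain ⟨P, rfl⟩ := hall m' hm'
    exact ⟨P, rfl⟩
  · obtain ⟨P, rfl⟩ := hall m' hm'
    exact hnfin P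

end Groth.Agent.MoriFiniteLib
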